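import Groth.Agent.H69.HomStage.Quot
import Groth.Agent.H47.ModStageFree
import Groth.Agent.Lib.TensorMod.FPConv
import Groth.Agent.Lib.TensorMod.QCohInv
import Groth.Agent.Lib.TensorMod.Invertible
import Groth.Agent.Lib.PerfPic.Basic
import Groth.Agent.S4790
import Groth.Agent.S4788
import Groth.Prelude.Def_PicLoc

/-!
# Pic of a limit is the colimit of the Pic
-/

set_option autoImplicit false
set_option linter.style.haveILetI false
set_option backward.isDefEq.respectTransparency false
universe u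

open CategoryTheory CategoryTheory.Limits AlgebraicGeometry Opposite
open Groth.Agent.Lib Groth.Agent.H47

namespace Groth.Agent.H69.PicStage.Main

variable {I : Type u} [SmallCategory I] [IsCofiltered I] (D : I ⥤ Scheme.{u}) (c : Cone D)
  [∀ (i j : I) (f : i ⟶ j), IsAffineHom (D.map f)]
  [∀ i, CompactSpace (D.obj i)] [∀ i, QuasiSeparatedSpace (D.obj i)]

/-- `Pic` of a limit of qcqs schemes with affine transition maps is the colimit of the `Pic`. -/
theorem isColimit_invCl (hc : IsLimit c) : Nonempty (IsColimit (PicLoc.invCl.mapCocone c.op)) := by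
  refine ⟨Types.FilteredColimit.isColimitOf' _ _ (fun x => ?_) fun i x y h => ?_⟩
  · obtain ⟨z, hz⟩ := x
    obtain ⟨L, rfl, hL⟩ := hz
    obtain ⟨i₀⟩ := IsCofiltered.nonempty (C := I)
    haveI : Coh.IsQCoh L := TensorMod.QCohInv.isQCoh_of_isInvertible hL
    obtain ⟨i, -, Fi, hq, hfp, ⟨e⟩⟩ := Groth.Agent.S4788.result D c hc i₀ L
      (TensorMod.FPConv.isFP_of_isFinLocFree
        (TensorMod.LocFree.of_rank (TensorMod.LocFree.of_isInvertible hL)))
    haveI : Fi.IsQuasicoherent := hq
    obtain ⟨j, φ, hj⟩ := (ModStageFree.rank_iff i Fi hc hfp 1).1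
      (TensorMod.LocFree.of_isInvertible (TensorMod.Invertible.isInvertible_of_iso e.symm hL))
    refine ⟨op j, ⟨PicF.cl ((Scheme.Modules.pullback (D.map φ)).obj Fi),
      _, rfl, TensorMod.LocFree.isInvertible_of_rank_one hj⟩, Subtype.ext ?_⟩
    exact Quot.sound ⟨e.symm ≪≫ ((HomStage.Cor.trπ i φ).app Fi).symm⟩
  · obtain ⟨_, L, rfl, hL⟩ := x
    obtain ⟨_, M, rfl, hM⟩ := y
    have h' : Nonempty ((Scheme.Modules.pullback (c.π.app i.unop)).obj L ≅
        (Scheme.Modules.pullback (c.π.app i.unop)).obj M) :=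
      (PerfPic.Basic.cl_eq_iff).1 (congrArg Subtype.val h)
    haveI : Coh.IsQCoh L := TensorMod.QCohInv.isQCoh_of_isInvertible hL
    haveI : Coh.IsQCoh M := TensorMod.QCohInv.isQCoh_of_isInvertible hM
    obtain ⟨j, φ, ⟨e⟩⟩ := (Groth.Agent.S4790.result D c hc i.unop L M
      (TensorMod.FPConv.isFP_of_isFinLocFree (TensorMod.LocFree.of_rank (TensorMod.LocFree.of_isInvertible hL)))
      (TensorMod.FPConv.isFP_of_isFinLocFree (TensorMod.LocFree.of_rank (TensorMod.LocFree.of_isInvertible hM)))).1 h'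
    exact ⟨op j, φ.op, Subtype.ext (Quot.sound ⟨e⟩)⟩

end Groth.Agent.H69.PicStage.Main
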